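import Cfsg.Agent.H591.LB.CertTab
import Cfsg.Agent.H34.LB.MDef

/-!
# S4879, the row of the Monster, `p = 11`: the arithmetic certificate, main theorem (helper591)
-/

set_option autoImplicit false
set_option maxRecDepth 100000

namespace Cfsg.Agent.H591.LB

open scoped BigOperators
open Matrix

/-! ### The Schur complement -/

theorem schur (R A : Matrix (Fin 5) (Fin 5) ℤ) (B : Matrix (Fin 5) (Fin 3) ℤ) (D : Matrix (Fin 3) (Fin 3) ℤ) {d : ℤ}
    (hd : d ≠ 0) (hRA : R * A = d • 1) (hR : R.det = d) :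
    d ^ 2 * (fromBlocks R B Bᵀ D).det = (d • D - Bᵀ * A * B).det := by
  have h1 : fromBlocks R B Bᵀ D * fromBlocks 1 (-(A * B)) 0 (d • (1 : Matrix (Fin 3) (Fin 3) ℤ)) =
      fromBlocks R 0 Bᵀ (d • D - Bᵀ * A * B) := by
    rw [Matrix.fromBlocks_multiply]
    congr 1
    · simp
    · rw [Matrix.mul_neg, ← Matrix.mul_assoc, hRA, Matrix.smul_mul, Matrix.one_mul, Matrix.mul_smul, Matrix.mul_one,
        neg_add_cancel]
    · simp
    · rw [Matrix.mul_neg, ← Matrix.mul_assoc]
      simp only [Matrix.mul_smul, Matrix.mul_one]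
      abel
  have h2 := congrArg Matrix.det h1
  rw [Matrix.det_mul, Matrix.det_fromBlocks_zero₂₁, Matrix.det_fromBlocks_zero₁₂, Matrix.det_one, one_mul,
    Matrix.det_smul, Matrix.det_one, mul_one, Fintype.card_fin, hR] at h2
  have h3 : d * (d ^ 2 * (fromBlocks R B Bᵀ D).det) = d * (d • D - Bᵀ * A * B).det := by
    rw [← h2]
    ring
  exact mul_left_cancel₀ hd h3

/-! ### The main theorem -/

section main

variable {ι : Type*} [Fintype ι]

theorem sum_sq_le {Q : ι → Fin 5 → ℤ} (hG : ∀ i j, ∑ x, Q x i * Q x j = if i = j then 33 else 22)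
    {K : Fin 7 → ι} (hK : Function.Injective K) (v : Fin 5 → ℤ) :
    ∑ x : Fin 7, (∑ j, Q (K x) j * v j) ^ 2 ≤ 11 * (∑ j, v j ^ 2 + 2 * (∑ j, v j) ^ 2) := by
  classical
  have h1 : ∑ x : Fin 7, (∑ j, Q (K x) j * v j) ^ 2 ≤ ∑ x, (∑ j, Q x j * v j) ^ 2 := by
    have h := Finset.sum_map Finset.univ ⟨K, hK⟩ (fun x => (∑ j, Q x j * v j) ^ 2)
    have h' := Finset.sum_le_univ_sum_of_nonneg (s := Finset.univ.map ⟨K, hK⟩)
      (f := fun x => (∑ j, Q x j * v j) ^ 2) fun x => sq_nonneg _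
    rw [h] at h'
    exact h'
  have h2 : ∑ x, (∑ j, Q x j * v j) ^ 2 = ∑ i, ∑ j, v i * v j * (if i = j then 33 else 22) := by
    have h3 : ∀ x, (∑ j, Q x j * v j) ^ 2 = ∑ i, ∑ j, v i * v j * (Q x i * Q x j) := by
      intro x
      rw [pow_two, Finset.sum_mul_sum]
      refine Finset.sum_congr rfl fun i _ => Finset.sum_congr rfl fun j _ => by ring
    simp_rw [h3]
    rw [Finset.sum_comm]
    refine Finset.sum_congr rfl fun i _ => ?_
    rw [Finset.sum_comm]
    refine Finset.sum_congr rfl fun j _ => ?_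
    rw [← Finset.mul_sum, hG]
  have h4 : ∑ i, ∑ j, v i * v j * (if i = j then (33 : ℤ) else 22) = 11 * (∑ j, v j ^ 2 + 2 * (∑ j, v j) ^ 2) := by
    simp [Fin.sum_univ_five]
    ring
  rw [← h4, ← h2]
  exact h1

/-- the list of a vector -/
def toL (q : Fin 5 → ℤ) : List ℤ := [q 0, q 1, q 2, q 3, q 4]

theorem mem_cand {Q : ι → Fin 5 → ℤ} (hG : ∀ i j, ∑ x, Q x i * Q x j = if i = j then 33 else 22)
    {K : Fin 7 → ι} (hK : Function.Injective K) (i : Fin 7) {D V : ℕ} {L : List (List ℤ)} (h : candChk D V L = true)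
    {dg vl : ℤ} (h1 : (121 : ℤ) ∣ Q (K i) 0 + 45 * Q (K i) 1 - 54 * Q (K i) 2 - 120 * Q (K i) 3 + 144 * Q (K i) 4 - dg)
    (h2 : (11 : ℤ) ∣ Q (K i) 0 + 5 * Q (K i) 1 - 6 * Q (K i) 2 + 4 * Q (K i) 4 - vl) (hD : (121 : ℤ) ∣ D - (dg + 685))
    (hD' : D < 121) (hV : (11 : ℤ) ∣ V - (vl + 75)) (hV' : V < 11) : toL (Q (K i)) ∈ L := by
  have key : ∀ v : Fin 5 → ℤ, (∑ j, Q (K i) j * v j) ^ 2 ≤ 11 * (∑ j, v j ^ 2 + 2 * (∑ j, v j) ^ 2) := fun v =>
    (Finset.single_le_sum (f := fun x : Fin 7 => (∑ j, Q (K x) j * v j) ^ 2) (fun x _ => sq_nonneg _)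
      (Finset.mem_univ i)).trans (sum_sq_le hG hK v)
  have hb : ∀ j, -5 ≤ Q (K i) j ∧ Q (K i) j ≤ 5 := by
    intro j
    have h := key (Pi.single j 1)
    have e1 : (∑ l, Q (K i) l * (Pi.single j 1 : Fin 5 → ℤ) l) = Q (K i) j := by
      simp [Pi.single_apply]
    have e2 : ∑ l, (Pi.single j 1 : Fin 5 → ℤ) l ^ 2 = 1 := by
      simp [Pi.single_apply]
    have e3 : ∑ l, (Pi.single j 1 : Fin 5 → ℤ) l = 1 := by
      simp [Pi.single_apply]
    rw [e1, e2, e3] at h
    constructor <;> nlinarith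
  refine mem_of_candChk h hb h1 h2 hD hD' hV hV' ?_
  have h := key fun l => 11 * Q (K i) l - 2 * (Q (K i) 0 + Q (K i) 1 + Q (K i) 2 + Q (K i) 3 + Q (K i) 4)
  simp only [Fin.sum_univ_five] at h
  set a := Q (K i) 0
  set b := Q (K i) 1
  set c := Q (K i) 2
  set d := Q (K i) 3
  set e := Q (K i) 4
  have h' : (11 * (a ^ 2 + b ^ 2 + c ^ 2 + d ^ 2 + e ^ 2) - 2 * (a + b + c + d + e) ^ 2) ^ 2 ≤
      121 * (11 * (a ^ 2 + b ^ 2 + c ^ 2 + d ^ 2 + e ^ 2) - 2 * (a + b + c + d + e) ^ 2) := by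
    have e1 : (a * (11 * a - 2 * (a + b + c + d + e)) + b * (11 * b - 2 * (a + b + c + d + e)) +
        c * (11 * c - 2 * (a + b + c + d + e)) + d * (11 * d - 2 * (a + b + c + d + e)) +
        e * (11 * e - 2 * (a + b + c + d + e))) =
        (11 * (a ^ 2 + b ^ 2 + c ^ 2 + d ^ 2 + e ^ 2) - 2 * (a + b + c + d + e) ^ 2) := by ring
    rw [e1] at h
    refine h.trans (le_of_eq ?_)
    ring
  by_contra hc
  nlinarith


/-- the six unknown rows -/
def tt (Q : ι → Fin 5 → ℤ) (K : Fin 7 → ι) : List (List ℤ) :=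
  [toL (Q (K 1)), toL (Q (K 2)), toL (Q (K 3)), toL (Q (K 4)), toL (Q (K 5)), toL (Q (K 6))]

theorem ssq_le {Q : ι → Fin 5 → ℤ} (hG : ∀ i j, ∑ x, Q x i * Q x j = if i = j then 33 else 22)
    {K : Fin 7 → ι} (hK : Function.Injective K) (h0 : Q (K 0) = ![1, 0, 0, 0, 0]) {v : List ℤ} (hv : v.length = 5) :
    ssq v ([1, 0, 0, 0, 0] :: tt Q K) ≤ bound v := by
  match v, hv with
  | [a, b, c, d, e], _ =>
    have h := sum_sq_le hG hK ![a, b, c, d, e]
    rw [Fin.sum_univ_seven] at h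
    simp only [Fin.sum_univ_five, h0] at h
    simp at h
    simp only [tt, toL, ssq, bound, dot]
    linarith

theorem viol_false {Q : ι → Fin 5 → ℤ} (hG : ∀ i j, ∑ x, Q x i * Q x j = if i = j then 33 else 22)
    {K : Fin 7 → ι} (hK : Function.Injective K) (h0 : Q (K 0) = ![1, 0, 0, 0, 0]) {qs : List (List ℤ)}
    (hqs : ∀ v, ssq v ([1, 0, 0, 0, 0] :: qs) ≤ ssq v ([1, 0, 0, 0, 0] :: tt Q K)) : viol qs = false := by
  rw [← Bool.not_eq_true]
  intro h
  obtain ⟨v, hv, h⟩ := List.any_eq_true.1 h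
  have h := of_decide_eq_true h
  have hl : ∀ v ∈ VS, v.length = 5 := by decide
  exact absurd (h.trans_le (hqs v)) (not_lt.2 (ssq_le hG hK h0 (hl v hv)))

theorem exists_entry {Q : ι → Fin 5 → ℤ} (hG : ∀ i j, ∑ x, Q x i * Q x j = if i = j then 33 else 22)
    {K : Fin 7 → ι} (hK : Function.Injective K) (h0 : Q (K 0) = ![1, 0, 0, 0, 0])
    (m1 : toL (Q (K 1)) ∈ L0) (m2 : toL (Q (K 2)) ∈ L1) (m3 : toL (Q (K 3)) ∈ L2) (m4 : toL (Q (K 4)) ∈ L3)
    (m5 : toL (Q (K 5)) ∈ L4) (m6 : toL (Q (K 6)) ∈ L5) : ∃ E ∈ table, E.t = tt Q K := by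
  have k := List.all_eq_true.1 tupChk_true _ m1
  have k := List.all_eq_true.1 k _ m2
  have k := List.all_eq_true.1 k _ m3
  rw [viol_false hG hK h0 (fun v => ?_), Bool.false_or] at k
  · have k := List.all_eq_true.1 k _ m4
    rw [viol_false hG hK h0 (fun v => ?_), Bool.false_or] at k
    · have k := List.all_eq_true.1 k _ m5
      rw [viol_false hG hK h0 (fun v => ?_), Bool.false_or] at k
      · have k := List.all_eq_true.1 k _ m6
        rw [viol_false hG hK h0 (fun v => ?_), Bool.false_or] at k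
        · obtain ⟨E, hE, h⟩ := List.any_eq_true.1 k
          exact ⟨E, hE, by simpa [tt] using h⟩
        · exact le_refl _
      · simp only [ssq, tt]
        nlinarith [mul_self_nonneg (dot (toL (Q (K 6))) v)]
    · simp only [ssq, tt]
      nlinarith [mul_self_nonneg (dot (toL (Q (K 6))) v), mul_self_nonneg (dot (toL (Q (K 5))) v)]
  · simp only [ssq, tt]
    nlinarith [mul_self_nonneg (dot (toL (Q (K 6))) v), mul_self_nonneg (dot (toL (Q (K 5))) v),
      mul_self_nonneg (dot (toL (Q (K 4))) v)]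

/-- the sum over the rest -/
theorem sum_rest (f : ι → ℤ) {K : Fin 7 → ι} (hK : Function.Injective K) [Fintype {x : ι // ¬ x ∈ Set.range K}] :
    ∑ u : {x : ι // ¬ x ∈ Set.range K}, f u = ∑ x, f x - ∑ i, f (K i) := by
  classical
  have h := Fintype.sum_subtype_add_sum_subtype (fun x => x ∈ Set.range K) f
  have h1 : ∑ i : {x : ι // x ∈ Set.range K}, f i = ∑ i, f (K i) :=
    (Fintype.sum_equiv (Equiv.ofInjective K hK) (fun i => f (K i)) (fun i => f i) fun i => rfl).symm
  have h2 : ∑ u : {x : ι // ¬ x ∈ Set.range K}, f u + ∑ i : {x : ι // x ∈ Set.range K}, f i = ∑ x, f x := by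
    rw [← h, add_comm]
    congr!
  rw [← h2, ← h1]
  ring

theorem det_step {Q : ι → Fin 5 → ℤ} (hG : ∀ i j, ∑ x, Q x i * Q x j = if i = j then 33 else 22)
    {K : Fin 7 → ι} (hK : Function.Injective K) (h0 : Q (K 0) = ![1, 0, 0, 0, 0]) {s : Fin 3 → ι → ℤ}
    (hs : ∀ t x, s t x ^ 2 ≤ 1) (hd : ∀ t u x, t ≠ u → s t x * s u x = 0) (hq : ∀ t j, ∑ x, s t x * Q x j = 0)
    (hsk : ∀ t i, s t (K i) = mat 3 7 sg t i) (hcard : Fintype.card ι ≤ 15) {E : Entry} (hE : E ∈ table)
    (ht : E.t = tt Q K) (hn0 : ∃ j, Q (K 0) j + Q (K 4) j - Q (K 5) j ≠ 0) (hn1 : ∃ j, Q (K 2) j ≠ 0)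
    (hn2 : ∃ j, Q (K 1) j ≠ 0) : False := by
  classical
  have hmat : ∀ (x : Fin 7) (j : Fin 5), mat 7 5 ([1, 0, 0, 0, 0] :: E.t) x j = Q (K x) j := by
    intro x j
    rw [ht]
    fin_cases x <;> fin_cases j <;> simp [mat, tt, toL, h0]
  have hc := List.all_eq_true.1 entChk_true E hE
  simp only [entChk, Bool.and_eq_true, decide_eq_true_eq, List.all_eq_true, List.mem_range, Bool.or_eq_true] at hc
  obtain ⟨⟨⟨⟨⟨c1, c2⟩, c3⟩, c4⟩, c5⟩, c6⟩ := hc
  let U := {x : ι // ¬ x ∈ Set.range K}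
  have hR : ∀ i j, ∑ u : U, Q u i * Q u j = Rm E.t i j := by
    intro i j
    rw [sum_rest (fun x => Q x i * Q x j) hK, hG]
    simp only [Rm, hmat]
  have hB : ∀ i t, ∑ u : U, Q u i * s t u = Bm E.t i t := by
    intro i t
    rw [sum_rest (fun x => Q x i * s t x) hK]
    have : ∑ x, Q x i * s t x = 0 := by
      rw [← hq t i]
      exact Finset.sum_congr rfl fun x _ => mul_comm _ _
    rw [this]
    simp only [Bm, hmat, hsk, zero_sub]
    congr 1
    exact Finset.sum_congr rfl fun x _ => mul_comm _ _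
  have hcU : Fintype.card U ≤ 8 := by
    have h := sum_rest (fun _ => (1 : ℤ)) hK
    simp only [Finset.sum_const, Finset.card_univ, nsmul_eq_mul, mul_one, Fintype.card_fin] at h
    push_cast at h
    change Fintype.card {x : ι // ¬ x ∈ Set.range K} ≤ 8
    have h' : ((Fintype.card {x : ι // ¬ x ∈ Set.range K} : ℕ) : ℤ) = Fintype.card ι - 7 := h
    omega
  obtain ⟨e⟩ : Nonempty (U ↪ Fin 5 ⊕ Fin 3) := by
    refine Function.Embedding.nonempty_of_card_le ?_
    rw [Fintype.card_sum, Fintype.card_fin, Fintype.card_fin]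
    exact hcU
  let col : Fin 5 ⊕ Fin 3 → U → ℤ := Sum.elim (fun j u => Q u j) (fun t u => s t u)
  let X : Matrix (Fin 5 ⊕ Fin 3) (Fin 5 ⊕ Fin 3) ℤ := fun r c => Function.extend e (col c) 0 r
  have hX : ∀ c c', (Xᵀ * X) c c' = ∑ u : U, col c u * col c' u := by
    intro c c'
    rw [Matrix.mul_apply]
    symm
    refine Fintype.sum_of_injective e e.injective _ _ (fun r hr => ?_) fun u => ?_
    · show Function.extend e (col c) 0 r * Function.extend e (col c') 0 r = 0
      rw [Function.extend_apply' _ _ _ (fun ⟨a, ha⟩ => hr ⟨a, ha⟩)]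
      simp
    · show col c u * col c' u = Function.extend e (col c) 0 (e u) * Function.extend e (col c') 0 (e u)
      rw [e.injective.extend_apply, e.injective.extend_apply]
  let n : Fin 3 → ℤ := fun t => ∑ u : U, s t u * s t u
  have hXX : Xᵀ * X = fromBlocks (mat 5 5 E.R) (Bm E.t) (Bm E.t)ᵀ (diagonal n) := by
    ext c c'
    rw [hX]
    rcases c with i | t <;> rcases c' with j | t'
    · rw [fromBlocks_apply₁₁, ← c1]
      exact hR i j
    · rw [fromBlocks_apply₁₂]
      exact hB i t'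
    · rw [fromBlocks_apply₂₁, Matrix.transpose_apply, ← hB]
      exact Finset.sum_congr rfl fun x _ => mul_comm _ _
    · rw [fromBlocks_apply₂₂]
      by_cases h : t = t'
      · subst h
        rw [diagonal_apply_eq]
        rfl
      · rw [diagonal_apply_ne _ h]
        exact Finset.sum_eq_zero fun u _ => hd t t' u h
  have hdet : (E.d * X.det) ^ 2 = det3 E.d E.W (n 0) (n 1) (n 2) := by
    have h := schur (mat 5 5 E.R) (mat 5 5 E.A) (Bm E.t) (diagonal n) c3 c2 (by rw [← ldet_eq, c4])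
    rw [← hXX, Matrix.det_mul, Matrix.det_transpose, c5] at h
    rw [mul_pow, pow_two X.det, h, Matrix.det_fin_three]
    simp [det3, mat, Matrix.diagonal]
    ring
  have hpos : ∀ t, 1 ≤ n t := by
    intro t
    by_contra hlt
    have h1 : n t = 0 := by
      have : 0 ≤ n t := Finset.sum_nonneg fun u _ => mul_self_nonneg _
      omega
    have h2 : ∀ u : U, s t u = 0 := by
      intro u
      have := (Finset.sum_eq_zero_iff_of_nonneg (s := (Finset.univ : Finset U)) (f := fun u : U => s t u * s t u)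
        (fun u _ => mul_self_nonneg (s t (u : ι)))).1 h1 u (Finset.mem_univ u)
      exact mul_self_eq_zero.1 this
    have h3 : ∀ j, ∑ i, mat 3 7 sg t i * Q (K i) j = 0 := by
      intro j
      have h4 := sum_rest (fun x => s t x * Q x j) hK
      rw [hq, Finset.sum_eq_zero (fun u _ => by rw [h2 u, zero_mul])] at h4
      simp only [hsk] at h4
      linarith
    fin_cases t
    · obtain ⟨j, hj⟩ := hn0
      have := h3 j
      simp [Fin.sum_univ_seven, mat, sg] at this
      exact hj (by linarith)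
    · obtain ⟨j, hj⟩ := hn1
      have := h3 j
      simp [Fin.sum_univ_seven, mat, sg] at this
      exact hj this
    · obtain ⟨j, hj⟩ := hn2
      have := h3 j
      simp [Fin.sum_univ_seven, mat, sg] at this
      exact hj this
  have hsum : n 0 + n 1 + n 2 ≤ 8 := by
    have h1 : n 0 + n 1 + n 2 = ∑ u : U, (s 0 u * s 0 u + s 1 u * s 1 u + s 2 u * s 2 u) := by
      rw [Finset.sum_add_distrib, Finset.sum_add_distrib]
    have h2 : ∑ u : U, (s 0 u * s 0 u + s 1 u * s 1 u + s 2 u * s 2 u) ≤ ∑ u : U, (1 : ℤ) := by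
      refine Finset.sum_le_sum fun u _ => ?_
      have e01 := hd 0 1 u (by decide)
      have e02 := hd 0 2 u (by decide)
      have e12 := hd 1 2 u (by decide)
      have a0 := hs 0 u
      have a1 := hs 1 u
      have a2 := hs 2 u
      rcases mul_eq_zero.1 e01 with h | h
      · rcases mul_eq_zero.1 e12 with h' | h'
        · rw [h, h']; nlinarith
        · rw [h, h']; nlinarith
      · rcases mul_eq_zero.1 e02 with h' | h'
        · rw [h, h']; nlinarith
        · rw [h, h']; nlinarith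
    rw [h1]
    refine h2.trans ?_
    rw [Finset.sum_const, Finset.card_univ, nsmul_eq_mul, mul_one]
    exact_mod_cast hcU
  obtain ⟨a, ha⟩ : ∃ a : ℕ, (a : ℤ) + 1 = n 0 := ⟨(n 0 - 1).toNat, by have := hpos 0; omega⟩
  obtain ⟨b, hb⟩ : ∃ a : ℕ, (a : ℤ) + 1 = n 1 := ⟨(n 1 - 1).toNat, by have := hpos 1; omega⟩
  obtain ⟨c, hc⟩ : ∃ a : ℕ, (a : ℤ) + 1 = n 2 := ⟨(n 2 - 1).toNat, by have := hpos 2; omega⟩
  rcases c6 a (by omega) b (by omega) c (by omega) with h | h
  · have h' : 5 < a + b + c := by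
      have := Nat.ble_eq ▸ h
      exact this
    omega
  · rw [ha, hb, hc] at h
    exact not_sq h _ hdet.symm

/-- **[M1]** the numerical statement for the Monster, `p = 11` -/
theorem no_data [DecidableEq ι] (hcard : Fintype.card ι ≤ 15) (M : H34.LB.MDat ι) : False := by
  have hG : ∀ i j, ∑ x, M.q x i * M.q x j = if i = j then 33 else 22 := by
    intro i j
    rw [M.gram]
    split_ifs <;> norm_num
  have h1 : ∀ n, (121 : ℤ) ∣ H34.LB.dg n - (M.q (M.c n) 0 + 45 * M.q (M.c n) 1 - 54 * M.q (M.c n) 2 -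
      120 * M.q (M.c n) 3 + 144 * M.q (M.c n) 4) := by
    intro n
    have h := M.cong1 n
    have e : ∑ j, M.q (M.c n) j * H34.LB.f1 j = M.q (M.c n) 0 + 45 * M.q (M.c n) 1 - 54 * M.q (M.c n) 2 -
        120 * M.q (M.c n) 3 + 144 * M.q (M.c n) 4 := by
      simp [Fin.sum_univ_five, H34.LB.f1]
      ring
    rwa [e] at h
  have h2 : ∀ n, (11 : ℤ) ∣ H34.LB.v2 n - (M.q (M.c n) 0 + 5 * M.q (M.c n) 1 - 6 * M.q (M.c n) 2 +
      4 * M.q (M.c n) 4) := by
    intro n
    have h := M.cong2 n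
    have e : ∑ j, M.q (M.c n) j * H34.LB.f2 j = M.q (M.c n) 0 + 5 * M.q (M.c n) 1 - 6 * M.q (M.c n) 2 +
        4 * M.q (M.c n) 4 := by
      simp [Fin.sum_univ_five, H34.LB.f2]
      ring
    rwa [e] at h
  have m1 : toL (M.q (M.c 1)) ∈ L0 := by
    have a := h1 1
    have b := h2 1
    rw [show H34.LB.dg 1 = 196883 from rfl] at a
    rw [show H34.LB.v2 1 = 4371 from rfl] at b
    exact mem_cand hG M.inj 1 chk0 (dg := 196883) (vl := 4371) (by omega) (by omega) (by omega) (by norm_num) (by omega)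
      (by norm_num)
  have m2 : toL (M.q (M.c 2)) ∈ L1 := by
    have a := h1 2
    have b := h2 2
    rw [show H34.LB.dg 2 = 842609326 from rfl] at a
    rw [show H34.LB.v2 2 = 1139374 from rfl] at b
    exact mem_cand hG M.inj 2 chk1 (dg := 842609326) (vl := 1139374) (by omega) (by omega) (by omega) (by norm_num)
      (by omega) (by norm_num)
  have m3 : toL (M.q (M.c 3)) ∈ L2 := by
    have a := h1 3
    have b := h2 3
    rw [show H34.LB.dg 3 = 36173193327999 from rfl] at a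
    rw [show H34.LB.v2 3 = 1354188159 from rfl] at b
    exact mem_cand hG M.inj 3 chk2 (dg := 36173193327999) (vl := 1354188159) (by omega) (by omega) (by omega)
      (by norm_num) (by omega) (by norm_num)
  have m4 : toL (M.q (M.c 4)) ∈ L3 := by
    have a := h1 4
    have b := h2 4
    rw [show H34.LB.dg 4 = 1109944460516150 from rfl] at a
    rw [show H34.LB.v2 4 = 9697078070 from rfl] at b
    exact mem_cand hG M.inj 4 chk3 (dg := 1109944460516150) (vl := 9697078070) (by omega) (by omega) (by omega)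
      (by norm_num) (by omega) (by norm_num)
  have m5 : toL (M.q (M.c 5)) ∈ L4 := by
    have a := h1 5
    have b := h2 5
    rw [show H34.LB.dg 5 = 251098487132187500 from rfl] at a
    rw [show H34.LB.v2 5 = 336140827500 from rfl] at b
    exact mem_cand hG M.inj 5 chk4 (dg := 251098487132187500) (vl := 336140827500) (by omega) (by omega) (by omega)
      (by norm_num) (by omega) (by norm_num)
  have m6 : toL (M.q (M.c 6)) ∈ L5 := by
    have a := h1 6
    have b := h2 6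
    rw [show H34.LB.dg 6 = 47377503606648784400 from rfl] at a
    rw [show H34.LB.v2 6 = 7170718631440 from rfl] at b
    exact mem_cand hG M.inj 6 chk5 (dg := 47377503606648784400) (vl := 7170718631440) (by omega) (by omega) (by omega)
      (by norm_num) (by omega) (by norm_num)
  obtain ⟨E, hE, ht⟩ := exists_entry hG M.inj M.one m1 m2 m3 m4 m5 m6
  have hmat : ∀ t n, H34.LB.ka t n = mat 3 7 sg t n := by
    intro t n
    fin_cases t <;> fin_cases n <;> rfl
  refine det_step hG M.inj M.one (s := M.a) (fun t x => ?_) (fun t u x h => M.disj t u h x) M.rel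
    (fun t n => by rw [M.known, hmat]) hcard hE ht ?_ ?_ ?_
  · rcases M.ha t x with h | h | h <;> rw [h] <;> norm_num
  · rw [M.one]
    by_contra hc
    push Not at hc
    have h3 : ∀ e ∈ L3, ∀ g ∈ L4, ¬ (1 + e.getD 0 0 - g.getD 0 0 = 0 ∧ e.getD 1 0 - g.getD 1 0 = 0 ∧
      e.getD 2 0 - g.getD 2 0 = 0 ∧ e.getD 3 0 - g.getD 3 0 = 0 ∧ e.getD 4 0 - g.getD 4 0 = 0) := by decide
    refine h3 _ m4 _ m5 ?_
    have c0 := hc 0
    have c1 := hc 1
    have c2 := hc 2
    have c3 := hc 3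
    have c4 := hc 4
    simp at c0 c1 c2 c3 c4
    simp only [toL, List.getD_cons_zero, List.getD_cons_succ]
    exact ⟨c0, c1, c2, c3, c4⟩
  · by_contra hc
    push Not at hc
    have h3 : ∀ e ∈ L1, ¬ (e.getD 0 0 = 0 ∧ e.getD 1 0 = 0) := by decide
    exact h3 _ m2 (by simp only [toL, List.getD_cons_zero, List.getD_cons_succ]; exact ⟨hc 0, hc 1⟩)
  · by_contra hc
    push Not at hc
    have h3 : ∀ e ∈ L0, ¬ (e.getD 0 0 = 0 ∧ e.getD 1 0 = 0) := by decide
    exact h3 _ m1 (by simp only [toL, List.getD_cons_zero, List.getD_cons_succ]; exact ⟨hc 0, hc 1⟩)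

end main

/-- **[M1]** -/
theorem mnum : H34.LB.MNum := fun ι _ hcard M => by
  classical
  exact no_data hcard M

end Cfsg.Agent.H591.LB
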